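import Groth.Agent.Lib.Seesaw26.FieldFunctions
import Groth.Agent.Lib.Seesaw26.Universal
import Groth.Agent.Lib.Seesaw26.Criterion

/-!
# Functions on geometrically connected and reduced proper schemes over fields
-/

set_option autoImplicit false
set_option linter.style.haveILetI false
set_option backward.isDefEq.respectTransparency false
universe u

noncomputable section

open CategoryTheory CategoryTheory.Limits AlgebraicGeometry Opposite TopologicalSpace TensorProduct

namespace GrothLib.PicGlue26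

open GrothLib.Cube (cst)
open GrothLib.Seesaw26

/-- `Γ(Z, O) = k` for `Z / k` universally closed, with connected reduced geometric fibre. -/
theorem finrank_functions_eq_one' {K : Type u} [Field K] {Z : Scheme.{u}} (p : Z ⟶ Spec (CommRingCat.of K))
    [UniversallyClosed p] [QuasiSeparated p]
    (hp : ∀ φ : Spec (CommRingCat.of (AlgebraicClosure K)) ⟶ Spec (CommRingCat.of K),
      IsReduced (pullback p φ) ∧ ConnectedSpace ↥(pullback p φ)) :
    (letI := (p.appTop.hom.comp (Scheme.ΓSpecIso (CommRingCat.of K)).inv.hom).toAlgebra;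
      Module.finrank K Γ(Z, ⊤)) = 1 := by
  letI := (p.appTop.hom.comp (Scheme.ΓSpecIso (CommRingCat.of K)).inv.hom).toAlgebra
  let L := AlgebraicClosure K
  let φ : Spec (CommRingCat.of L) ⟶ Spec (CommRingCat.of K) :=
    Spec.map (CommRingCat.ofHom (algebraMap K L))
  let Z' := pullback p φ
  let g : Z' ⟶ Z := pullback.fst p φ
  let q : Z' ⟶ Spec (CommRingCat.of L) := pullback.snd p φ
  have H : IsPullback g q p φ := IsPullback.of_hasPullback p φ
  haveI : ConnectedSpace ↥Z' := (hp φ).2
  haveI : IsReduced Z' := (hp φ).1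
  have hq : Function.Bijective (cst q ⊤) := bijective_cst_of_isAlgClosed q
  haveI : CompactSpace Z := QuasiCompact.compactSpace_of_compactSpace p
  haveI : QuasiSeparatedSpace Z := quasiSeparatedSpace_of_quasiSeparated p
  haveI : Flat φ := by
    rw [HasRingHomProperty.Spec_iff (P := @Flat)]
    exact RingHom.flat_algebraMap_iff.mpr inferInstance
  have hP : IsPushout (p.appLE ⊤ ⊤ le_top) (φ.appLE ⊤ ⊤ le_top) (g.appLE ⊤ ⊤ le_top) (q.appLE ⊤ ⊤ le_top) :=
    (AlgebraicGeometry.isIso_pushoutSection_iff H (US := ⊤) (UT := ⊤) (UX := ⊤) (UY := ⊤) le_top le_top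
      (by simp)).1 (isIso_pushoutSection_of_isQuasiSeparated_of_flat_right H _ _ _
        (isAffineOpen_top _) (isAffineOpen_top _) isCompact_univ (IsQuasiSeparated.of_quasiSeparatedSpace _))
  have hP' : IsPushout (CommRingCat.ofHom (cst p ⊤)) (CommRingCat.ofHom (algebraMap K L))
      (g.appLE ⊤ ⊤ le_top) (CommRingCat.ofHom (cst q ⊤)) := by
    refine hP.of_iso (Scheme.ΓSpecIso _) (Iso.refl _) (Scheme.ΓSpecIso _) (Iso.refl _) ?_ ?_ ?_ ?_
    · ext r
      simp [cst]
    · rw [show φ.appLE ⊤ ⊤ le_top = φ.appTop from Scheme.Hom.appLE_eq_app _]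
      exact Scheme.ΓSpecIso_naturality _
    · simp
    · ext r
      simp [cst]
  have hc : ∀ r : K, algebraMap K Γ(Z, ⊤) r = cst p ⊤ r := fun r => by
    simp [cst, Scheme.Hom.appLE, RingHom.algebraMap_toAlgebra]
  letI : Algebra L Γ(Z', ⊤) := (cst q ⊤).toAlgebra
  letI : Algebra Γ(Z, ⊤) Γ(Z', ⊤) := (g.appLE ⊤ ⊤ le_top).hom.toAlgebra
  letI : Algebra K Γ(Z', ⊤) := ((cst q ⊤).comp (algebraMap K L)).toAlgebra
  haveI : IsScalarTower K L Γ(Z', ⊤) := IsScalarTower.of_algebraMap_eq fun _ => rfl
  haveI : IsScalarTower K Γ(Z, ⊤) Γ(Z', ⊤) := IsScalarTower.of_algebraMap_eq fun r =>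
    (ConcreteCategory.congr_hom hP'.w r).symm.trans (congrArg (g.appLE ⊤ ⊤ le_top).hom (hc r).symm)
  haveI hA : Algebra.IsPushout K Γ(Z, ⊤) L Γ(Z', ⊤) := by
    refine CommRingCat.isPushout_iff_isPushout.1 ?_
    rwa [show CommRingCat.ofHom (algebraMap K Γ(Z, ⊤)) = CommRingCat.ofHom (cst p ⊤) from
      CommRingCat.hom_ext (RingHom.ext hc)]
  haveI hA' : Algebra.IsPushout K L Γ(Z, ⊤) Γ(Z', ⊤) := hA.symm
  have e : L ≃ₗ[L] Γ(Z', ⊤) := LinearEquiv.ofBijective (Algebra.linearMap L Γ(Z', ⊤)) hq
  rw [← Module.finrank_baseChange (R := L), hA'.out.equiv.finrank_eq, ← e.finrank_eq, Module.finrank_self]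

/-- `f_* O = O` for a proper flat morphism with connected reduced geometric fibres. -/
theorem bijective_app {W B : Scheme.{u}} (f : W ⟶ B) [IsProper f] [Flat f] [LocallyOfFinitePresentation f]
    (hfib : ∀ (K : Type u) [Field K] [IsAlgClosed K] (g : Spec (CommRingCat.of K) ⟶ B),
      IsReduced (pullback f g) ∧ ConnectedSpace ↥(pullback f g)) (U : B.Opens) : Function.Bijective (f.app U) := by
  refine bijective_app_of_invertible f (invertible_push_structure f fun y => ?_) U
  haveI : UniversallyClosed (f.fiberToSpecResidueField y) :=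
    inferInstanceAs (UniversallyClosed (pullback.snd f (B.fromSpecResidueField y)))
  haveI : QuasiSeparated (f.fiberToSpecResidueField y) :=
    inferInstanceAs (QuasiSeparated (pullback.snd f (B.fromSpecResidueField y)))
  refine finrank_functions_eq_one' (K := B.residueField y) (f.fiberToSpecResidueField y) fun φ => ?_
  obtain ⟨h1, h2⟩ := hfib _ (φ ≫ B.fromSpecResidueField y)
  let e : pullback (f.fiberToSpecResidueField y) φ ≅ pullback f (φ ≫ B.fromSpecResidueField y) :=
    pullbackLeftPullbackSndIso f (B.fromSpecResidueField y) φ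
  exact ⟨isReduced_of_isOpenImmersion e.hom, e.inv.homeomorph.surjective.connectedSpace e.inv.continuous⟩

end GrothLib.PicGlue26
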