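import Groth.Agent.Lib.PicGlue26.Pair
import Groth.Agent.Lib.PthRoot26.Basic
import Groth.Agent.Lib.Cube.Pic

/-!
# Invertible modules on a union of two closed subschemes
-/

universe u

open CategoryTheory CategoryTheory.Limits Opposite TopologicalSpace AlgebraicGeometry
open GrothLib GrothLib.Ample

set_option backward.isDefEq.respectTransparency false

noncomputable section

namespace GrothLib.PicGlue26

/-- Every class has a representative with a nonempty index type. -/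
theorem exists_rep {X : Scheme.{u}} (e : Cube.Pic X) : ∃ c : Cocycle X, Cube.cls c = e ∧ Nonempty c.ι := by
  obtain ⟨c⟩ := e
  rcases isEmpty_or_nonempty c.ι with h | h
  · refine ⟨Cocycle.triv X, ?_, ⟨PUnit.unit⟩⟩
    exact (Quotient.sound (Cube.eqv_of_map (c := c) (c' := Cocycle.triv X) (fun i => h.elim i)
      (fun i => h.elim i) (fun i => h.elim i) (fun i => h.elim i) fun i => h.elim i)).symm
  · exact ⟨c, rfl, h⟩

/-- An open of the ambient space cutting out a given open of a closed subscheme. -/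
theorem exists_open_preimage {X Y : Scheme.{u}} (f : Y ⟶ X) [IsClosedImmersion f] (V : Y.Opens) :
    ∃ O : X.Opens, f ⁻¹ᵁ O = V := by
  obtain ⟨O, hO, e⟩ := f.isClosedEmbedding.isInducing.isOpen_iff.1 V.2
  exact ⟨⟨O, hO⟩, Opens.ext e⟩

/-- A neighbourhood of a point inside which a closed subscheme sits in one piece of a cover. -/
theorem exists_index {X Y : Scheme.{u}} (f : Y ⟶ X) [IsClosedImmersion f] (c : Cocycle Y) [hc : Nonempty c.ι]
    (x : X) : ∃ (a : c.ι) (O : X.Opens), x ∈ O ∧ f ⁻¹ᵁ O ≤ c.D a := by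
  by_cases hx : x ∈ Set.range f.base
  · obtain ⟨y, rfl⟩ := hx
    obtain ⟨a, ha⟩ := c.exists_mem y
    obtain ⟨O, hO⟩ := exists_open_preimage f (c.D a)
    exact ⟨a, O, (by rw [← hO] at ha; exact ha), hO.le⟩
  · refine ⟨hc.some, ⟨(Set.range f.base)ᶜ, f.isClosedEmbedding.isClosed_range.isOpen_compl⟩, hx, fun y hy => ?_⟩
    exact absurd ⟨y, rfl⟩ hy

variable {X : Scheme.{u}} {I J : X.IdealSheafData}

/-- A unit on the intersection lifts near every point. -/
theorem exists_unit_lift (x : X) {A : (I ⊔ J).subscheme.Opens} {O₁ : X.Opens} (hx : x ∈ O₁)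
    (hA : (I ⊔ J).subschemeι ⁻¹ᵁ O₁ ≤ A) (t : Γ((I ⊔ J).subscheme, A)) (ht : IsUnit t) :
    ∃ (U : X.Opens) (hU : U ≤ O₁) (l : Γ(I.subscheme, I.subschemeι ⁻¹ᵁ U)), x ∈ U ∧ IsUnit l ∧
      ((jY I J).appLE _ _ (pre_jY I J U).le).hom l = res (((I ⊔ J).subschemeι.preimage_mono hU).trans hA) t := by
  by_cases hxW : x ∈ Set.range (I ⊔ J).subschemeι.base
  · obtain ⟨w, rfl⟩ := hxW
    obtain ⟨U₀, hU₀, hxU₀, hU₀le⟩ := exists_isAffineOpen_mem_and_subset hx
    have hP : IsAffineOpen (I.subschemeι ⁻¹ᵁ U₀) := hU₀.preimage _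
    obtain ⟨s, hs⟩ := (jY I J).app_surjective _ hP
      (res ((pre_jY I J U₀).ge.trans (((I ⊔ J).subschemeι.preimage_mono hU₀le).trans hA)) t)
    obtain ⟨O₂, hO₂⟩ := exists_open_preimage I.subschemeι (I.subscheme.basicOpen s)
    have hw : (jY I J).base w ∈ I.subscheme.basicOpen s := by
      show w ∈ jY I J ⁻¹ᵁ I.subscheme.basicOpen s
      rw [Scheme.preimage_basicOpen, hs, Scheme.basicOpen_of_isUnit _ (ht.map _)]
      exact (pre_jY I J U₀).le hxU₀
    have hxO₂ : (I ⊔ J).subschemeι.base w ∈ O₂ := by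
      rw [← jY_ι I J]
      exact (le_of_eq hO₂.symm) hw
    refine ⟨U₀ ⊓ O₂, inf_le_left.trans hU₀le, res (I.subschemeι.preimage_mono inf_le_left) s, ⟨hxU₀, hxO₂⟩, ?_, ?_⟩
    · have h1 := RingedSpace.isUnit_res_basicOpen I.subscheme.toRingedSpace s
      have h2 : I.subschemeι ⁻¹ᵁ (U₀ ⊓ O₂) ≤ I.subscheme.basicOpen s :=
        (I.subschemeι.preimage_mono inf_le_right).trans hO₂.le
      have h3 : IsUnit (res h2 (res (I.subscheme.basicOpen_le s) s)) := IsUnit.map _ h1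
      rwa [res_res] at h3
    · have h := congrArg (res ((pre_jY I J (U₀ ⊓ O₂)).le.trans
        ((jY I J).preimage_mono (I.subschemeι.preimage_mono inf_le_left)))) hs
      simp only [Scheme.Hom.app_eq_appLE, res_appLE, appLE_res, res_res] at h ⊢
      exact h
  · let C : X.Opens := ⟨(Set.range (I ⊔ J).subschemeι.base)ᶜ,
      ((I ⊔ J).subschemeι.isClosedEmbedding).isClosed_range.isOpen_compl⟩
    refine ⟨O₁ ⊓ C, inf_le_left, 1, ⟨hx, hxW⟩, isUnit_one, ?_⟩
    have hbot : (I ⊔ J).subschemeι ⁻¹ᵁ (O₁ ⊓ C) ≤ ⊥ := fun y hy => (hy.2 ⟨y, rfl⟩).elim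
    exact eq_of_cover (fun e : PEmpty.{1} => e.elim) (fun e => e.elim) (hbot.trans bot_le) fun e => e.elim

/-- Classes on the two pieces agreeing on the intersection glue. -/
theorem exists_glue (hIJ : I ⊓ J = ⊥) (y : Cube.Pic I.subscheme) (z : Cube.Pic J.subscheme)
    (h : Cube.pull (jY I J) y = Cube.pull (jZ I J) z) :
    ∃ c : Cube.Pic X, Cube.pull I.subschemeι c = y ∧ Cube.pull J.subschemeι c = z := by
  classical
  obtain ⟨cy, rfl, hy⟩ := exists_rep y
  obtain ⟨cz, rfl, hz⟩ := exists_rep z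
  have htriv : Cube.Triv ((cy.comap (jY I J)).prod (Cube.inv (cz.comap (jZ I J)))) := by
    rw [← Cube.cls_eq_one_iff, Cube.cls_prod,
      show Cube.cls (cy.comap (jY I J)) = Cube.cls (cz.comap (jZ I J)) from h, mul_comm]
    exact Quotient.sound (Cube.eqv_prod_inv _)
  obtain ⟨t, ht, htG⟩ := PthRoot26.triv_units htriv
  have hdata : ∀ x : X, ∃ (a : cy.ι) (b : cz.ι) (U : X.Opens) (hY : I.subschemeι ⁻¹ᵁ U ≤ cy.D a)
      (hZ : J.subschemeι ⁻¹ᵁ U ≤ cz.D b) (l : Γ(I.subscheme, I.subschemeι ⁻¹ᵁ U)), x ∈ U ∧ IsUnit l ∧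
      ((jY I J).appLE _ _ (pre_jY I J U).le).hom l =
        res (le_inf ((pre_jY I J U).le.trans ((jY I J).preimage_mono hY))
          ((pre_jZ I J U).le.trans ((jZ I J).preimage_mono hZ))) (t (a, b)) := by
    intro x
    obtain ⟨a, O, hxO, hO⟩ := exists_index I.subschemeι cy x
    obtain ⟨b, O', hxO', hO'⟩ := exists_index J.subschemeι cz x
    have hA : (I ⊔ J).subschemeι ⁻¹ᵁ (O ⊓ O') ≤ jY I J ⁻¹ᵁ cy.D a ⊓ jZ I J ⁻¹ᵁ cz.D b :=
      le_inf ((pre_jY I J _).le.trans ((jY I J).preimage_mono ((I.subschemeι.preimage_mono inf_le_left).trans hO)))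
        ((pre_jZ I J _).le.trans ((jZ I J).preimage_mono ((J.subschemeι.preimage_mono inf_le_right).trans hO')))
    obtain ⟨U, hU, l, hxU, hl, el⟩ := exists_unit_lift x (O₁ := O ⊓ O') ⟨hxO, hxO'⟩ hA (t (a, b)) (ht _)
    exact ⟨a, b, U, (I.subschemeι.preimage_mono (hU.trans inf_le_left)).trans hO,
      (J.subschemeι.preimage_mono (hU.trans inf_le_right)).trans hO', l, hxU, hl, el⟩
  choose a b U hY hZ l hxU hl el using hdata
  choose l' hl' using fun x => (hl x).exists_right_inv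
  have hYi : ∀ x (O : X.Opens), O ≤ U x → I.subschemeι ⁻¹ᵁ O ≤ cy.D (a x) := fun x O h =>
    (I.subschemeι.preimage_mono h).trans (hY x)
  have hZi : ∀ x (O : X.Opens), O ≤ U x → J.subschemeι ⁻¹ᵁ O ≤ cz.D (b x) := fun x O h =>
    (J.subschemeι.preimage_mono h).trans (hZ x)
  let G : ∀ (i k : X) (O : X.Opens), O ≤ U i → O ≤ U k → Γ(I.subscheme, I.subschemeι ⁻¹ᵁ O) :=
    fun i k O hi hk => cy.G (a i) (a k) (hYi i O hi) (hYi k O hk) *
      (res (I.subschemeι.preimage_mono hk) (l k) * res (I.subschemeι.preimage_mono hi) (l' i))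
  have hagree : ∀ i k (O : X.Opens) (hi : O ≤ U i) (hk : O ≤ U k),
      ((jY I J).appLE _ _ (pre_jY I J O).le).hom (G i k O hi hk) =
        ((jZ I J).appLE _ _ (pre_jZ I J O).le).hom (cz.G (b i) (b k) (hZi i O hi) (hZi k O hk)) := by
    intro i k O hi hk
    let V := (I ⊔ J).subschemeι ⁻¹ᵁ O
    have hVi : V ≤ jY I J ⁻¹ᵁ cy.D (a i) := (pre_jY I J O).le.trans ((jY I J).preimage_mono (hYi i O hi))
    have hVk : V ≤ jY I J ⁻¹ᵁ cy.D (a k) := (pre_jY I J O).le.trans ((jY I J).preimage_mono (hYi k O hk))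
    have hWi : V ≤ jZ I J ⁻¹ᵁ cz.D (b i) := (pre_jZ I J O).le.trans ((jZ I J).preimage_mono (hZi i O hi))
    have hWk : V ≤ jZ I J ⁻¹ᵁ cz.D (b k) := (pre_jZ I J O).le.trans ((jZ I J).preimage_mono (hZi k O hk))
    have h1 := htG (a i, b i) (a k, b k) V (le_inf hVi hWi) (le_inf hVk hWk)
    rw [Cocycle.prod_G, Cocycle.comap_G, Cube.inv_G, Cocycle.comap_G] at h1
    have e1 := congrArg (res ((I ⊔ J).subschemeι.preimage_mono hi)) (el i)
    have e2 := congrArg (res ((I ⊔ J).subschemeι.preimage_mono hk)) (el k)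
    have e3 := congrArg (fun s => res ((I ⊔ J).subschemeι.preimage_mono hi)
      (((jY I J).appLE _ _ (pre_jY I J (U i)).le).hom s)) (hl' i)
    have h4 := congrArg ((jZ I J).appLE _ _ (pre_jZ I J O).le).hom
      (cz.G_trans (b i) (b k) (b i) (hZi i O hi) (hZi k O hk) (hZi i O hi))
    rw [cz.G_self] at h4
    simp only [G, Cocycle.G, map_mul, map_one, res_appLE, appLE_res, res_res] at h1 e1 e2 e3 h4 ⊢
    rw [e2]
    replace e1 := e1.trans h1
    rw [e1] at e3
    generalize ((jY I J).appLE (cy.D (a i) ⊓ cy.D (a k)) _ _).hom (cy.g (a i) (a k)) = p at *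
    generalize ((jZ I J).appLE (cz.D (b i) ⊓ cz.D (b k)) _ _).hom (cz.g (b i) (b k)) = q at *
    generalize ((jZ I J).appLE (cz.D (b k) ⊓ cz.D (b i)) _ _).hom (cz.g (b k) (b i)) = r at *
    linear_combination (p * (res _ (t (a k, b k))) * ((jY I J).appLE _ _ _).hom (l' i)) * h4 + q * e3
  have hg : ∀ i k, ∃ g : Γ(X, U i ⊓ U k),
      (I.subschemeι.app _).hom g = G i k _ inf_le_left inf_le_right ∧
      (J.subschemeι.app _).hom g = cz.G (b i) (b k) (hZi i _ inf_le_left) (hZi k _ inf_le_right) :=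
    fun i k => pair_glue hIJ _ _ _ (hagree i k _ inf_le_left inf_le_right)
  choose g hgY hgZ using hg
  have hgY' : ∀ i k (O : I.subscheme.Opens) (hi : O ≤ I.subschemeι ⁻¹ᵁ U i) (hk : O ≤ I.subschemeι ⁻¹ᵁ U k),
      (I.subschemeι.appLE (U i ⊓ U k) O (le_inf hi hk)).hom (g i k) =
        cy.G (a i) (a k) (hi.trans (hY i)) (hk.trans (hY k)) * (res hk (l k) * res hi (l' i)) := by
    intro i k O hi hk
    have := congrArg (res (show O ≤ I.subschemeι ⁻¹ᵁ (U i ⊓ U k) from le_inf hi hk)) (hgY i k)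
    simpa only [G, map_mul, Cocycle.res_G, res_res, Scheme.Hom.app_eq_appLE, res_appLE] using this
  have hgZ' : ∀ i k (O : J.subscheme.Opens) (hi : O ≤ J.subschemeι ⁻¹ᵁ U i) (hk : O ≤ J.subschemeι ⁻¹ᵁ U k),
      (J.subschemeι.appLE (U i ⊓ U k) O (le_inf hi hk)).hom (g i k) =
        cz.G (b i) (b k) (hi.trans (hZ i)) (hk.trans (hZ k)) := by
    intro i k O hi hk
    have := congrArg (res (show O ≤ J.subschemeι ⁻¹ᵁ (U i ⊓ U k) from le_inf hi hk)) (hgZ i k)
    simpa only [Cocycle.res_G, Scheme.Hom.app_eq_appLE, res_appLE] using this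
  let c : Cocycle X :=
    { ι := X
      D := U
      g := g
      cover := top_le_iff.1 fun x _ => Opens.mem_iSup.2 ⟨x, hxU x⟩
      self := fun i O hi => by
        refine pair_ext hIJ ?_ ?_
        · rw [map_one, Scheme.Hom.app_eq_appLE, appLE_res,
            hgY' i i _ (I.subschemeι.preimage_mono hi) (I.subschemeι.preimage_mono hi), cy.G_self, one_mul, ← map_mul,
            hl' i, map_one]
        · rw [map_one, Scheme.Hom.app_eq_appLE, appLE_res,
            hgZ' i i _ (J.subschemeι.preimage_mono hi) (J.subschemeι.preimage_mono hi), cz.G_self]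
      change := fun i k m O hi hk hm => by
        refine pair_ext hIJ ?_ ?_
        · have hi' := I.subschemeι.preimage_mono hi
          have hk' := I.subschemeι.preimage_mono hk
          have hm' := I.subschemeι.preimage_mono hm
          rw [map_mul, Scheme.Hom.app_eq_appLE, appLE_res, appLE_res, appLE_res, hgY' i m _ hi' hm',
            hgY' i k _ hi' hk', hgY' k m _ hk' hm',
            cy.G_trans (a i) (a k) (a m) (hi'.trans (hY i)) (hk'.trans (hY k)) (hm'.trans (hY m))]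
          have := congrArg (res hk') (hl' k)
          rw [map_mul, map_one] at this
          linear_combination -(cy.G (a i) (a k) (hi'.trans (hY i)) (hk'.trans (hY k)) *
            cy.G (a k) (a m) (hk'.trans (hY k)) (hm'.trans (hY m)) * res hm' (l m) * res hi' (l' i)) * this
        · have hi' := J.subschemeι.preimage_mono hi
          have hk' := J.subschemeι.preimage_mono hk
          have hm' := J.subschemeι.preimage_mono hm
          rw [map_mul, Scheme.Hom.app_eq_appLE, appLE_res, appLE_res, appLE_res, hgZ' i m _ hi' hm',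
            hgZ' i k _ hi' hk', hgZ' k m _ hk' hm',
            cz.G_trans (b i) (b k) (b m) (hi'.trans (hZ i)) (hk'.trans (hZ k)) (hm'.trans (hZ m))] }
  refine ⟨Cube.cls c, ?_, ?_⟩
  · refine Quotient.sound (Cube.eqv_of_map (c := c.comap I.subschemeι) (c' := cy) a hY l hl fun i k O hi hk => ?_)
    rw [Cocycle.comap_G, hgY' i k O hi hk]
    have := congrArg (res hi) (hl' i)
    rw [map_mul, map_one] at this
    linear_combination -(cy.G (a i) (a k) (hi.trans (hY i)) (hk.trans (hY k)) * res hk (l k)) * this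
  · refine Quotient.sound (Cube.eqv_of_map (c := c.comap J.subschemeι) (c' := cz) b hZ (fun _ => 1)
      (fun _ => isUnit_one) fun i k O hi hk => ?_)
    rw [Cocycle.comap_G, hgZ' i k O hi hk, map_one, map_one, one_mul, mul_one]

/-- A class trivial on both pieces is trivial, when global units of the intersection come from units
of `X`. -/
theorem eq_one_of_pieces (hIJ : I ⊓ J = ⊥)
    (hu : ∀ u : Γ((I ⊔ J).subscheme, ⊤), IsUnit u → ∃ v : Γ(X, ⊤), IsUnit v ∧
      ((I ⊔ J).subschemeι.appLE ⊤ ⊤ le_top).hom v = u)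
    (c : Cube.Pic X) (hY : Cube.pull I.subschemeι c = 1) (hZ : Cube.pull J.subschemeι c = 1) : c = 1 := by
  obtain ⟨c⟩ := c
  show Cube.cls c = 1
  rw [Cube.cls_eq_one_iff]
  obtain ⟨s, hs, hsG⟩ : ∃ a : ∀ i, Γ(I.subscheme, I.subschemeι ⁻¹ᵁ c.D i), (∀ i, IsUnit (a i)) ∧
      ∀ i j (W : I.subscheme.Opens) (hi : W ≤ I.subschemeι ⁻¹ᵁ c.D i) (hj : W ≤ I.subschemeι ⁻¹ᵁ c.D j),
        res hi (a i) = (I.subschemeι.appLE (c.D i ⊓ c.D j) W (le_inf hi hj)).hom (c.g i j) * res hj (a j) := by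
    obtain ⟨a, ha, haG⟩ :=
      PthRoot26.triv_units (Cube.cls_eq_one_iff.1 (show Cube.cls (c.comap I.subschemeι) = 1 from hY))
    exact ⟨a, ha, fun i j W hi hj => (haG i j W hi hj).trans (congrArg (· * _) (Cocycle.comap_G _ _ _ _ hi hj))⟩
  obtain ⟨t, ht, htG⟩ : ∃ a : ∀ i, Γ(J.subscheme, J.subschemeι ⁻¹ᵁ c.D i), (∀ i, IsUnit (a i)) ∧
      ∀ i j (W : J.subscheme.Opens) (hi : W ≤ J.subschemeι ⁻¹ᵁ c.D i) (hj : W ≤ J.subschemeι ⁻¹ᵁ c.D j),
        res hi (a i) = (J.subschemeι.appLE (c.D i ⊓ c.D j) W (le_inf hi hj)).hom (c.g i j) * res hj (a j) := by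
    obtain ⟨a, ha, haG⟩ :=
      PthRoot26.triv_units (Cube.cls_eq_one_iff.1 (show Cube.cls (c.comap J.subschemeι) = 1 from hZ))
    exact ⟨a, ha, fun i j W hi hj => (haG i j W hi hj).trans (congrArg (· * _) (Cocycle.comap_G _ _ _ _ hi hj))⟩
  choose t' ht' using fun i => (ht i).exists_right_inv
  let V : c.ι → (I ⊔ J).subscheme.Opens := fun i => (I ⊔ J).subschemeι ⁻¹ᵁ c.D i
  let r : ∀ i, Γ((I ⊔ J).subscheme, V i) := fun i =>
    ((jY I J).appLE _ _ (pre_jY I J (c.D i)).le).hom (s i) * ((jZ I J).appLE _ _ (pre_jZ I J (c.D i)).le).hom (t' i)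
  have hcomp : ∀ {P : Scheme.{u}} (f : (I ⊔ J).subscheme ⟶ P) (q : P ⟶ X) (_ : f ≫ q = (I ⊔ J).subschemeι)
      {A : X.Opens} {B : P.Opens} {C : (I ⊔ J).subscheme.Opens} (eB : B ≤ q ⁻¹ᵁ A) (eC : C ≤ f ⁻¹ᵁ B)
      (e : C ≤ (I ⊔ J).subschemeι ⁻¹ᵁ A) (w : Γ(X, A)),
      (f.appLE B C eC).hom ((q.appLE A B eB).hom w) = ((I ⊔ J).subschemeι.appLE A C e).hom w := by
    intro P f q hfq A B C eB eC e w
    rw [← CommRingCat.comp_apply, Scheme.Hom.appLE_comp_appLE]
    simp only [hfq]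
  obtain ⟨u, hu0, hur⟩ := PthRoot26.exists_unit_glue V
    (by rw [← Scheme.Hom.preimage_iSup, c.cover]; rfl) r
    (fun i => ((hs i).map _).mul ((IsUnit.of_mul_eq_one (t i) (by rw [mul_comm]; exact ht' i)).map _))
    fun i j => by
      let O := c.D i ⊓ c.D j
      let hG := le_rfl (a := (I ⊔ J).subschemeι ⁻¹ᵁ O)
      have e1 := congrArg ((jY I J).appLE (I.subschemeι ⁻¹ᵁ O) (V i ⊓ V j) (pre_jY I J O).le).hom
        (hsG i j (I.subschemeι ⁻¹ᵁ O) (I.subschemeι.preimage_mono inf_le_left) (I.subschemeι.preimage_mono inf_le_right))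
      have e2 := congrArg ((jZ I J).appLE (J.subschemeι ⁻¹ᵁ O) (V i ⊓ V j) (pre_jZ I J O).le).hom
        (htG i j (J.subschemeι ⁻¹ᵁ O) (J.subschemeι.preimage_mono inf_le_left) (J.subschemeι.preimage_mono inf_le_right))
      have e3 := congrArg (fun w => ((jZ I J).appLE _ (V i ⊓ V j) (inf_le_left.trans (pre_jZ I J (c.D i)).le)).hom w) (ht' i)
      have e4 := congrArg (fun w => ((jZ I J).appLE _ (V i ⊓ V j) (inf_le_right.trans (pre_jZ I J (c.D j)).le)).hom w) (ht' j)
      simp only [map_mul, map_one, appLE_res] at e1 e2 e3 e4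
      rw [hcomp _ _ (jY_ι I J) _ _ (show V i ⊓ V j ≤ (I ⊔ J).subschemeι ⁻¹ᵁ O from le_rfl)] at e1
      rw [hcomp _ _ (jZ_ι I J) _ _ (show V i ⊓ V j ≤ (I ⊔ J).subschemeι ⁻¹ᵁ O from le_rfl)] at e2
      simp only [r, V, map_mul, res_appLE, appLE_res]
      rw [e1]
      rw [e2] at e3
      generalize ((I ⊔ J).subschemeι.appLE (c.D i ⊓ c.D j) (V i ⊓ V j) _).hom (c.g i j) = γ at *
      linear_combination (-(γ * ((jY I J).appLE _ _ _).hom (s j) * ((jZ I J).appLE _ _ _).hom (t' i))) * e4 +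
        (((jY I J).appLE _ _ _).hom (s j) * ((jZ I J).appLE _ _ _).hom (t' j)) * e3
  obtain ⟨v, hv, ev⟩ := hu u hu0
  have hpair : ∀ i, ∃ β : Γ(X, c.D i), IsUnit β ∧ (I.subschemeι.app _).hom β = s i ∧
      (J.subschemeι.app _).hom β = t i * (J.subschemeι.appLE ⊤ _ le_top).hom v := by
    intro i
    refine pair_glue_unit hIJ _ _ _ (hs i) ((ht i).mul (hv.map _)) ?_
    have h1 := hur i
    rw [← ev, res_appLE] at h1
    have e3 := congrArg (((jZ I J).appLE _ (V i) (pre_jZ I J (c.D i)).le).hom) (ht' i)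
    simp only [r, map_mul, map_one] at h1 e3
    rw [map_mul, hcomp _ _ (jZ_ι I J) _ _ (show V i ≤ (I ⊔ J).subschemeι ⁻¹ᵁ ⊤ from le_top), h1]
    linear_combination (-(((jY I J).appLE _ _ _).hom (s i))) * e3
  choose β hβ hβY hβZ using hpair
  refine PthRoot26.triv_of_units β hβ fun i j O hi hj => ?_
  refine pair_ext hIJ ?_ ?_
  · have e := hsG i j (I.subschemeι ⁻¹ᵁ O) (I.subschemeι.preimage_mono hi) (I.subschemeι.preimage_mono hj)
    rw [← hβY i, ← hβY j] at e
    simp only [map_mul, Cocycle.G, Scheme.Hom.app_eq_appLE, appLE_res, res_appLE] at e ⊢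
    exact e
  · have e := htG i j (J.subschemeι ⁻¹ᵁ O) (J.subschemeι.preimage_mono hi) (J.subschemeι.preimage_mono hj)
    have e1 := congrArg (res (J.subschemeι.preimage_mono hi)) (hβZ i)
    have e2 := congrArg (res (J.subschemeι.preimage_mono hj)) (hβZ j)
    simp only [map_mul, Cocycle.G, Scheme.Hom.app_eq_appLE, appLE_res, res_appLE] at e e1 e2 ⊢
    rw [e1, e2, e]
    ring

end GrothLib.PicGlue26
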