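import Groth.Agent.Lib.PicProd26.Main
import Mathlib.AlgebraicGeometry.IdealSheaf.Subscheme

/-!
# Functions on a union of two closed subschemes
-/

universe u

open CategoryTheory CategoryTheory.Limits Opposite TopologicalSpace AlgebraicGeometry
open GrothLib GrothLib.Ample

set_option backward.isDefEq.respectTransparency false

noncomputable section

namespace GrothLib.PicGlue26

variable {X : Scheme.{u}} (I J : X.IdealSheafData)

/-- The inclusion of the intersection in the first subscheme. -/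
abbrev jY : (I ⊔ J).subscheme ⟶ I.subscheme := Scheme.IdealSheafData.inclusion le_sup_left

/-- The inclusion of the intersection in the second subscheme. -/
abbrev jZ : (I ⊔ J).subscheme ⟶ J.subscheme := Scheme.IdealSheafData.inclusion le_sup_right

theorem jY_ι : jY I J ≫ I.subschemeι = (I ⊔ J).subschemeι := Scheme.IdealSheafData.inclusion_subschemeι _

theorem jZ_ι : jZ I J ≫ J.subschemeι = (I ⊔ J).subschemeι := Scheme.IdealSheafData.inclusion_subschemeι _

theorem pre_jY (U : X.Opens) : (I ⊔ J).subschemeι ⁻¹ᵁ U = jY I J ⁻¹ᵁ (I.subschemeι ⁻¹ᵁ U) := by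
  rw [← jY_ι I J]; rfl

theorem pre_jZ (U : X.Opens) : (I ⊔ J).subschemeι ⁻¹ᵁ U = jZ I J ⁻¹ᵁ (J.subschemeι ⁻¹ᵁ U) := by
  rw [← jZ_ι I J]; rfl

instance isClosedImmersion_jY : IsClosedImmersion (jY I J) :=
  haveI : IsClosedImmersion (jY I J ≫ I.subschemeι) := by rw [jY_ι]; infer_instance
  IsClosedImmersion.of_comp (jY I J) I.subschemeι

theorem ker_app (K : X.IdealSheafData) (U : X.affineOpens) (a : Γ(X, U)) :
    (K.subschemeι.app U).hom a = 0 ↔ a ∈ K.ideal U := by
  rw [← RingHom.mem_ker, Scheme.IdealSheafData.ker_subschemeι_app]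

variable {I J}

theorem pair_ext_affine (hIJ : I ⊓ J = ⊥) (U : X.affineOpens) {a b : Γ(X, U)}
    (hY : (I.subschemeι.app U).hom a = (I.subschemeι.app U).hom b)
    (hZ : (J.subschemeι.app U).hom a = (J.subschemeι.app U).hom b) : a = b := by
  have h1 : a - b ∈ I.ideal U := (ker_app I U _).1 (by rw [map_sub, hY, sub_self])
  have h2 : a - b ∈ J.ideal U := (ker_app J U _).1 (by rw [map_sub, hZ, sub_self])
  have h3 : a - b ∈ (I ⊓ J).ideal U := ⟨h1, h2⟩
  rw [hIJ] at h3
  exact sub_eq_zero.1 h3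

/-- Functions are determined on the two pieces. -/
theorem pair_ext (hIJ : I ⊓ J = ⊥) {O : X.Opens} {a b : Γ(X, O)}
    (hY : (I.subschemeι.app O).hom a = (I.subschemeι.app O).hom b)
    (hZ : (J.subschemeι.app O).hom a = (J.subschemeι.app O).hom b) : a = b := by
  have hcov : ∀ x ∈ O, ∃ U : X.affineOpens, x ∈ U.1 ∧ U.1 ≤ O := fun x hx => by
    obtain ⟨U, hU, hxU, hUO⟩ := exists_isAffineOpen_mem_and_subset hx
    exact ⟨⟨U, hU⟩, hxU, hUO⟩
  choose U hxU hUO using hcov
  refine eq_of_cover (fun x : {x // x ∈ O} => (U x.1 x.2).1) (fun x => hUO x.1 x.2)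
    (fun x hx => Opens.mem_iSup.2 ⟨⟨x, hx⟩, hxU x hx⟩) fun x => ?_
  refine pair_ext_affine hIJ _ ?_ ?_
  · have := congrArg (res (I.subschemeι.preimage_mono (hUO x.1 x.2))) hY
    simpa only [Scheme.Hom.app_eq_appLE, res_appLE, appLE_res] using this
  · have := congrArg (res (J.subschemeι.preimage_mono (hUO x.1 x.2))) hZ
    simpa only [Scheme.Hom.app_eq_appLE, res_appLE, appLE_res] using this

theorem pair_glue_affine (U : X.affineOpens) (a : Γ(I.subscheme, I.subschemeι ⁻¹ᵁ U))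
    (b : Γ(J.subscheme, J.subschemeι ⁻¹ᵁ U))
    (h : ((jY I J).appLE _ _ (pre_jY I J U).le).hom a = ((jZ I J).appLE _ _ (pre_jZ I J U).le).hom b) :
    ∃ c : Γ(X, U), (I.subschemeι.app U).hom c = a ∧ (J.subschemeι.app U).hom c = b := by
  obtain ⟨x, rfl⟩ := I.subschemeι_app_surjective U a
  obtain ⟨y, rfl⟩ := J.subschemeι_app_surjective U b
  have hcomp : ∀ {V : Scheme.{u}} (f : (I ⊔ J).subscheme ⟶ V) (g : V ⟶ X) (_ : f ≫ g = (I ⊔ J).subschemeι)
      (z : Γ(X, U)) (e : (I ⊔ J).subschemeι ⁻¹ᵁ U ≤ f ⁻¹ᵁ (g ⁻¹ᵁ U)),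
      (f.appLE _ _ e).hom ((g.app U).hom z) = ((I ⊔ J).subschemeι.app U).hom z := by
    intro V f g hfg z e
    rw [Scheme.Hom.app_eq_appLE, Scheme.Hom.app_eq_appLE, ← CommRingCat.comp_apply, Scheme.Hom.appLE_comp_appLE]
    simp only [hfg]
  rw [hcomp _ _ (jY_ι I J), hcomp _ _ (jZ_ι I J)] at h
  have h1 : x - y ∈ (I ⊔ J).ideal U := (ker_app _ U _).1 (by rw [map_sub, h, sub_self])
  rw [Scheme.IdealSheafData.ideal_sup, Pi.sup_apply, Submodule.mem_sup] at h1
  obtain ⟨i, hi, j, hj, hij⟩ := h1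
  refine ⟨x - i, ?_, ?_⟩
  · rw [map_sub, (ker_app I U i).2 hi, sub_zero]
  · have : x - i = y + j := by linear_combination -hij
    rw [this, map_add, (ker_app J U j).2 hj, add_zero]

/-- Functions on the two pieces agreeing on the intersection glue. -/
theorem pair_glue (hIJ : I ⊓ J = ⊥) (O : X.Opens) (a : Γ(I.subscheme, I.subschemeι ⁻¹ᵁ O))
    (b : Γ(J.subscheme, J.subschemeι ⁻¹ᵁ O))
    (h : ((jY I J).appLE _ _ (pre_jY I J O).le).hom a = ((jZ I J).appLE _ _ (pre_jZ I J O).le).hom b) :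
    ∃ c : Γ(X, O), (I.subschemeι.app O).hom c = a ∧ (J.subschemeι.app O).hom c = b := by
  have hcov : ∀ x ∈ O, ∃ U : X.affineOpens, x ∈ U.1 ∧ U.1 ≤ O := fun x hx => by
    obtain ⟨U, hU, hxU, hUO⟩ := exists_isAffineOpen_mem_and_subset hx
    exact ⟨⟨U, hU⟩, hxU, hUO⟩
  choose U hxU hUO using hcov
  let D : {x // x ∈ O} → X.Opens := fun x => (U x.1 x.2).1
  have hD : O ≤ ⨆ x, D x := fun x hx => Opens.mem_iSup.2 ⟨⟨x, hx⟩, hxU x hx⟩
  have hloc : ∀ x, ∃ c : Γ(X, D x), (I.subschemeι.app (D x)).hom c = res (I.subschemeι.preimage_mono (hUO x.1 x.2)) a ∧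
      (J.subschemeι.app (D x)).hom c = res (J.subschemeι.preimage_mono (hUO x.1 x.2)) b := fun x => by
    refine pair_glue_affine (U x.1 x.2) _ _ ?_
    have := congrArg (res ((I ⊔ J).subschemeι.preimage_mono (hUO x.1 x.2))) h
    simpa only [Scheme.Hom.app_eq_appLE, res_appLE, appLE_res] using this
  choose c hcY hcZ using hloc
  obtain ⟨g, hg, -⟩ := X.sheaf.existsUnique_gluing' D O (fun x => homOfLE (hUO x.1 x.2)) hD c fun x y => by
    show res (inf_le_left : D x ⊓ D y ≤ D x) (c x) = res (inf_le_right : D x ⊓ D y ≤ D y) (c y)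
    refine pair_ext hIJ ?_ ?_
    · have e1 := congrArg (res (I.subschemeι.preimage_mono (inf_le_left : D x ⊓ D y ≤ D x))) (hcY x)
      have e2 := congrArg (res (I.subschemeι.preimage_mono (inf_le_right : D x ⊓ D y ≤ D y))) (hcY y)
      simp only [Scheme.Hom.app_eq_appLE, res_appLE, appLE_res] at e1 e2 ⊢
      refine e1.trans (Eq.trans ?_ e2.symm)
      exact (res_res _ _ _).trans (res_res _ _ _).symm
    · have e1 := congrArg (res (J.subschemeι.preimage_mono (inf_le_left : D x ⊓ D y ≤ D x))) (hcZ x)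
      have e2 := congrArg (res (J.subschemeι.preimage_mono (inf_le_right : D x ⊓ D y ≤ D y))) (hcZ y)
      simp only [Scheme.Hom.app_eq_appLE, res_appLE, appLE_res] at e1 e2 ⊢
      refine e1.trans (Eq.trans ?_ e2.symm)
      exact (res_res _ _ _).trans (res_res _ _ _).symm
  refine ⟨g, ?_, ?_⟩
  · refine eq_of_cover (fun x => I.subschemeι ⁻¹ᵁ D x) (fun x => I.subschemeι.preimage_mono (hUO x.1 x.2))
      (by rw [← Scheme.Hom.preimage_iSup]; exact I.subschemeι.preimage_mono hD) fun x => ?_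
    have : res (hUO x.1 x.2) (show Γ(X, O) from g) = c x := hg x
    rw [← hcY x, ← this]
    simp only [Scheme.Hom.app_eq_appLE, res_appLE, appLE_res]
    exact (appLE_res _ _ _ _).symm
  · refine eq_of_cover (fun x => J.subschemeι ⁻¹ᵁ D x) (fun x => J.subschemeι.preimage_mono (hUO x.1 x.2))
      (by rw [← Scheme.Hom.preimage_iSup]; exact J.subschemeι.preimage_mono hD) fun x => ?_
    have : res (hUO x.1 x.2) (show Γ(X, O) from g) = c x := hg x
    rw [← hcZ x, ← this]
    simp only [Scheme.Hom.app_eq_appLE, res_appLE, appLE_res]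
    exact (appLE_res _ _ _ _).symm

/-- Units on the two pieces agreeing on the intersection glue to a unit. -/
theorem pair_glue_unit (hIJ : I ⊓ J = ⊥) (O : X.Opens) (a : Γ(I.subscheme, I.subschemeι ⁻¹ᵁ O))
    (b : Γ(J.subscheme, J.subschemeι ⁻¹ᵁ O)) (ha : IsUnit a) (hb : IsUnit b)
    (h : ((jY I J).appLE _ _ (pre_jY I J O).le).hom a = ((jZ I J).appLE _ _ (pre_jZ I J O).le).hom b) :
    ∃ c : Γ(X, O), IsUnit c ∧ (I.subschemeι.app O).hom c = a ∧ (J.subschemeι.app O).hom c = b := by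
  obtain ⟨c, hcY, hcZ⟩ := pair_glue hIJ O a b h
  obtain ⟨a', ha'⟩ := ha.exists_right_inv
  obtain ⟨b', hb'⟩ := hb.exists_right_inv
  obtain ⟨d, hdY, hdZ⟩ := pair_glue hIJ O a' b' (by
    have e1 := congrArg ((jY I J).appLE _ _ (pre_jY I J O).le).hom ha'
    have e2 := congrArg ((jZ I J).appLE _ _ (pre_jZ I J O).le).hom hb'
    rw [map_mul, map_one] at e1 e2
    rw [h] at e1
    exact left_inv_eq_right_inv ((mul_comm _ _).trans e1) e2)
  exact ⟨c, IsUnit.of_mul_eq_one d (pair_ext hIJ (by rw [map_mul, map_one, hcY, hdY, ha'])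
    (by rw [map_mul, map_one, hcZ, hdZ, hb'])), hcY, hcZ⟩

end GrothLib.PicGlue26
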